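import Cfsg.Agent.H670.PSolv
import Cfsg.Agent.Lib.Cores
import Cfsg.Agent.S0169
import Cfsg.Prelude.Def_Classification2

/-!
# Itô-Michler: the predicate `IM` and the reduction to simple groups (helper33)

* `IM p G` : some irreducible complex character of `G` has degree divisible by `p`.
* `IM.of_equiv`, `IM.of_surjective`, `IM.of_quotient`, `IM.of_normal` : transport.
* `Core p` : `IM p S` for every known finite nonabelian simple group `S` of order divisible by `p`
  (the task of hub H5: one row per family).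
* `main` : the Itô-Michler theorem from `Core p` and the classification.
-/

set_option autoImplicit false

open Cfsg

namespace Cfsg.Agent.H33

open Cfsg.Agent.Characters.Core Cfsg.Agent.Blocks.Knorr

universe u v

/-- Some irreducible character of `G` has degree divisible by `p`. -/
def IM (p : ℕ) (G : Type u) [Group G] : Prop :=
  ∃ χ : IrrCharacter G, p ∣ charDegree (χ : G → ℂ)

section

variable {p : ℕ} {G : Type u} [Group G] {H : Type v} [Group H]

theorem IM.intro {χ : G → ℂ} (hχ : IsIrrCharacter G χ) (h : p ∣ charDegree χ) : IM p G :=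
  ⟨⟨χ, hχ⟩, h⟩

/-- Irreducible character with a given natural degree. -/
theorem IM.of_apply_one {χ : G → ℂ} (hχ : IsIrrCharacter G χ) {n : ℕ} (hn : χ 1 = n)
    (h : p ∣ n) : IM p G :=
  ⟨⟨χ, hχ⟩, by rwa [H670.PSing.charDegree_eq_of hn]⟩

theorem IM.of_surjective (f : G →* H) (hf : Function.Surjective f) (h : IM p H) : IM p G := by
  obtain ⟨χ, hχ⟩ := h
  refine ⟨⟨(χ : H → ℂ) ∘ f, isIrr_comp f hf χ.2⟩, ?_⟩
  have h2 : charDegree ((χ : H → ℂ) ∘ f) = charDegree (χ : H → ℂ) := by
    unfold charDegree
    rw [Function.comp_apply, map_one]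
  show p ∣ charDegree ((χ : H → ℂ) ∘ f)
  rwa [h2]

theorem IM.of_equiv (e : G ≃* H) (h : IM p H) : IM p G :=
  h.of_surjective e.toMonoidHom e.surjective

theorem IM.congr (e : G ≃* H) : IM p G ↔ IM p H :=
  ⟨fun h => h.of_equiv e.symm, fun h => h.of_equiv e⟩

theorem IM.of_quotient (N : Subgroup G) [N.Normal] (h : IM p (G ⧸ N)) : IM p G :=
  h.of_surjective (QuotientGroup.mk' N) (QuotientGroup.mk'_surjective N)

theorem IM.of_normal [Finite G] (N : Subgroup G) [N.Normal] (h : IM p N) : IM p G := by
  obtain ⟨θ, hθ⟩ := h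
  by_contra hcon
  refine H670.PSing.prime_normal (p := p) N (fun χ hχ hd => hcon ⟨⟨χ, hχ⟩, hd⟩) θ θ.2 hθ

theorem IM.dvd_card [Finite G] (h : IM p G) : p ∣ Nat.card G := by
  obtain ⟨χ, hχ⟩ := h
  exact hχ.trans (charDegree_dvd χ.2)

theorem not_IM_iff : ¬ IM p G ↔ ∀ χ : IrrCharacter G, ¬ p ∣ charDegree (χ : G → ℂ) := by
  unfold IM
  push Not
  rfl

end

/-- **The simple group core of the Itô-Michler theorem** (for known simple groups). -/
def Core (p : ℕ) : Prop :=
  ∀ (S : Type u) [Group S] [Finite S], IsSimpleGroup S → IsKnownSimple' S → ¬ IsMulCommutative S →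
    p ∣ Nat.card S → IM p S

/-- Every finite group all of whose irreducible characters have degree prime to `p` is
`p`-solvable. -/
theorem isPSolvable_of_core {p : ℕ} [hp : Fact p.Prime] (hcore : Core.{u} p)
    (hS : ∀ (X : Type u) [Group X] [Finite X] [IsSimpleGroup X], IsKnownSimple' X) (n : ℕ) :
    ∀ (G : Type u) [Group G] [Finite G], Nat.card G ≤ n → ¬ IM p G → IsPSolvable p G := by
  induction n with
  | zero =>
    intro G _ _ hn
    exact absurd hn (by have := Nat.card_pos (α := G); omega)
  | succ n ih =>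
    intro G _ _ hn hG
    by_cases hc : IsMulCommutative G
    · have : Group.IsSolvable G := by
        apply Group.isSolvable_of_comm
        exact fun a b => hc.is_comm.comm a b
      exact Lib.PSolvable.IsPSolvable_of_solvable p
    by_cases hs : IsSimpleGroup G
    · by_cases hd : p ∣ Nat.card G
      · exact absurd (hcore G hs (hS G) hc hd) hG
      · exact PLocal.PSolvable.isPSolvable_of_coprime
          ((Nat.Prime.coprime_iff_not_dvd hp.out).2 hd).symm
    have hnt : Nontrivial G := by
      by_contra h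
      rw [not_nontrivial_iff_subsingleton] at h
      exact hc ⟨⟨fun a b => Subsingleton.elim _ _⟩⟩
    obtain ⟨N, hN, hNb, hNt⟩ : ∃ N : Subgroup G, N.Normal ∧ N ≠ ⊥ ∧ N ≠ ⊤ := by
      by_contra hcon
      push Not at hcon
      exact hs ⟨fun N hN => by
        by_cases h : N = ⊥
        · exact Or.inl h
        · exact Or.inr (hcon N hN h)⟩
    -- `N` is `p`-solvable
    have hNc : Nat.card N ≤ n := by
      have h1 : Nat.card N < Nat.card G := by
        refine lt_of_le_of_ne (Subgroup.card_le_card_group N) fun h => hNt ?_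
        exact Subgroup.eq_top_of_card_eq N h
      omega
    have hNs := ih N hNc (fun h => hG (h.of_normal N))
    have hNbt : (⊥ : Subgroup N) < ⊤ := by
      rw [bot_lt_iff_ne_bot]
      intro h
      apply hNb
      rw [Subgroup.eq_bot_iff_forall]
      intro x hx
      have h1 : (⟨x, hx⟩ : N) ∈ (⊤ : Subgroup N) := trivial
      rw [h, Subgroup.mem_bot] at h1
      exact congrArg Subtype.val h1
    obtain ⟨L, hL, hL1, -, hL2⟩ := Lib.PSolvable.sep_of_pSolvable p hNs ⊥ ⊤ inferInstance inferInstance
      hNbt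
    rw [Subgroup.relIndex_bot_left] at hL2
    -- a characteristic `p`- or `p'`-subgroup of `N`
    obtain ⟨R, hR, hRb, hR2⟩ : ∃ R : Subgroup G, R.Normal ∧ R ≠ ⊥ ∧
        ((∃ m : ℕ, Nat.card R = p ^ m) ∨ (Nat.card R).Coprime p) := by
      rcases hL2 with ⟨m, hm⟩ | hc
      · have hch := Lib.Cores.pCore_characteristic (G := N) p
        refine ⟨(pCore p N).map N.subtype, ConjAct.normal_of_characteristic_of_normal, ?_,
          Or.inl ?_⟩
        · rw [Ne, Subgroup.map_eq_bot_iff_of_injective _ N.subtype_injective]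
          intro h
          have h1 := Lib.Cores.le_pCore hL (IsPGroup.of_card hm)
          rw [h, le_bot_iff] at h1
          exact hL1.ne' h1
        · exact (IsPGroup.iff_card (p := p)).1 ((Lib.Cores.pCore_isPGroup (G := N) p).map _)
      · have hch := Lib.Cores.pPrimeCore_characteristic (G := N) p
        refine ⟨(pPrimeCore p N).map N.subtype, ConjAct.normal_of_characteristic_of_normal, ?_,
          Or.inr ?_⟩
        · rw [Ne, Subgroup.map_eq_bot_iff_of_injective _ N.subtype_injective]
          intro h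
          have h1 := Lib.Cores.le_pPrimeCore hL hc
          rw [h, le_bot_iff] at h1
          exact hL1.ne' h1
        · rw [Nat.card_congr ((pPrimeCore p N).equivMapOfInjective _ N.subtype_injective).toEquiv.symm]
          exact Lib.Cores.pPrimeCore_coprime (G := N) p
    have hq : Nat.card (G ⧸ R) ≤ n := by
      have h1 := Subgroup.card_eq_card_quotient_mul_card_subgroup R
      have h2 : 1 < Nat.card R := by
        rw [Subgroup.one_lt_card_iff_ne_bot]; exact hRb
      have h3 : 0 < Nat.card (G ⧸ R) := Nat.card_pos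
      nlinarith
    exact Lib.PSolvable.IsPSolvable_of_quotient p R hR2 (ih (G ⧸ R) hq fun h => hG (h.of_quotient R))

/-- **Itô-Michler theorem** from the simple group core. -/
theorem main {G : Type u} [Group G] [Finite G] (p : ℕ) [hp : Fact p.Prime] (hcore : Core.{u} p)
    (hS : ∀ (X : Type u) [Group X] [Finite X] [IsSimpleGroup X], IsKnownSimple' X) (P : Sylow p G) :
    ((P : Subgroup G).Normal ∧ IsMulCommutative P) ↔
      ∀ χ : Cfsg.IrrCharacter G, ¬ p ∣ Cfsg.charDegree (χ : G → ℂ) := by
  constructor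
  · rintro ⟨hPn, hcomm⟩ χ h
    obtain ⟨d, ρ, hρ, hχ⟩ := χ.2
    have hc : ∀ a ∈ (P : Subgroup G), ∀ b ∈ (P : Subgroup G), a * b = b * a := by
      intro a ha b hb
      exact congrArg Subtype.val (hcomm.is_comm.comm (⟨a, ha⟩ : (P : Subgroup G)) ⟨b, hb⟩)
    have hdvd := Cfsg.Agent.S0169.result ρ (P : Subgroup G) hc
    have h2 : charDegree (χ : G → ℂ) = d := by
      apply H670.PSing.charDegree_eq_of
      rw [← hχ, Representation.char_one]
      simp
    rw [Module.finrank_fin_fun, ← h2] at hdvd
    exact P.not_dvd_index (h.trans hdvd)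
  · intro h
    have h1 : IsPSolvable p G := isPSolvable_of_core hcore hS _ G le_rfl (not_IM_iff.2 h)
    obtain ⟨h2, h3⟩ := H670.PSing.IM_of_pSolvable h1 (fun χ hχ => h ⟨χ, hχ⟩) P
    exact ⟨h2, ⟨⟨fun a b => Subtype.ext (h3 a a.2 b b.2)⟩⟩⟩

end Cfsg.Agent.H33
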