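import Cfsg.Agent.H33.IM
import Cfsg.Agent.H665.DefZero
import Cfsg.Agent.S0920
import Cfsg.Agent.Blocks.BrauerHom
import Cfsg.Agent.Blocks.DefectCard
import Cfsg.Agent.H686.PairCrit
import Cfsg.Agent.H592.Defect

/-!
# Large `p`-parts of degrees from local data (helper33, after an idea of helper569)

* `exists_centralChar` : if no quotient of two conjugates of `s` is a nontrivial `p`-element, then
  some central character does not vanish modulo `M` at `s`.
* `exists_of_brauer` : the same conclusion from a character of `H`, `C_G(D) ≤ H ≤ N_G(D)`, whose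
  Brauer central character does not vanish at `u`.
* `exists_RD` (Theorem RD) : `u` of order prime to `p`, `D` a Sylow `p`-subgroup of `C_G(u)`, no
  quotient of two conjugates of `u` in `C_G(D)` a nontrivial `p`-element: some irreducible character
  has degree divisible by the `p`-part of the class size of `u`.
* `IM.of_RD`, `IM.of_local` (T3).
-/

set_option autoImplicit false

open Cfsg

namespace Cfsg.Agent.H33

open Cfsg.Agent.Characters.Core Cfsg.Agent.Blocks.Basic Cfsg.Agent.Blocks.Local
open scoped ComplexConjugate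

universe u

variable {G : Type u} [Group G] [Finite G] {p : ℕ} [hp : Fact p.Prime] {M : Ideal AlgInt}

/-- If no quotient `g * h⁻¹` of two conjugates of `s` is a nonidentity element of the Sylow
subgroup `P`, some central character does not vanish at `s` modulo the local ideal. -/
theorem exists_centralChar (hM : IsPModular p M) (s : G) (P : Sylow p G)
    (hs : ∀ g h : G, IsConj s g → IsConj s h → g * h⁻¹ ∈ (P : Subgroup G) → g * h⁻¹ = 1) :
    ∃ χ : IrrCharacter G, ¬ MemLocalIdeal M (centralChar (χ : G → ℂ) s) := by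
  classical
  have hMp : M.IsPrime := isPrime_of_isPModular hM
  by_contra hcon
  push Not at hcon
  have := Fintype.ofFinite G
  have : Finite (IrrCharacter G) := finite_irr
  have := Fintype.ofFinite (IrrCharacter G)
  have : Fintype (P : Subgroup G) := Fintype.ofFinite _
  -- the number of pairs
  have key : ∀ z : (P : Subgroup G),
      (Nat.card {q : G × G // IsConj s q.1 ∧ IsConj s⁻¹ q.2 ∧ q.1 * q.2 = z} : ℂ) =
      if z = 1 then ((Subgroup.centralizer ({s} : Set G)).index : ℂ) else 0 := by
    intro z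
    split_ifs with hz
    · subst hz
      congr 1
      rw [← Cfsg.Agent.Characters.ClassMul.card_filter_isConj s, ← Fintype.card_subtype,
        ← Nat.card_eq_fintype_card]
      refine Nat.card_congr ⟨fun q => ⟨q.1.1, q.2.1⟩, fun u => ⟨(u.1, u.1⁻¹), u.2, ?_, ?_⟩, ?_, ?_⟩
      · obtain ⟨c, hc⟩ := isConj_iff.1 u.2
        exact isConj_iff.2 ⟨c, by rw [← hc]; group⟩
      · simp
      · rintro ⟨⟨u, v⟩, h1, h2, h3⟩
        simp only [Subtype.mk.injEq, Prod.mk.injEq, true_and]
        have h3' : u * v = 1 := by simpa using h3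
        exact inv_eq_of_mul_eq_one_right h3'
      · rintro ⟨u, hu⟩
        rfl
    · have : IsEmpty {q : G × G // IsConj s q.1 ∧ IsConj s⁻¹ q.2 ∧ q.1 * q.2 = z} := by
        refine ⟨?_⟩
        rintro ⟨⟨u, v⟩, h1, h2, h3⟩
        have h4 : IsConj s v⁻¹ := by
          obtain ⟨c, hc⟩ := isConj_iff.1 h2
          have hc' : c * s⁻¹ * c⁻¹ = v := hc
          exact isConj_iff.2 ⟨c, by rw [← hc']; group⟩
        have h5 : u * (v⁻¹)⁻¹ = (z : G) := by rw [inv_inv]; exact h3
        have h6 := hs u v⁻¹ h1 h4 (by rw [h5]; exact z.2)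
        rw [h5] at h6
        exact hz (Subtype.ext h6)
      rw [Nat.card_of_isEmpty, Nat.cast_zero]
  choose m hm using fun χ : IrrCharacter G =>
    H665.DefZero.exists_sum_subgroup (isIrr_isCharacter χ.2) (P : Subgroup G)
  have hidx : (Subgroup.centralizer ({s⁻¹} : Set G)).index =
      (Subgroup.centralizer ({s} : Set G)).index := by
    congr 1
    ext x
    rw [Subgroup.mem_centralizer_singleton_iff, Subgroup.mem_centralizer_singleton_iff]
    constructor
    · intro h
      have : Commute x s⁻¹ := h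
      exact (Commute.inv_right_iff.1 this)
    · intro h
      have : Commute x s := h
      exact (Commute.inv_right_iff.2 this)
  have hsum : ((Subgroup.centralizer ({s} : Set G)).index : ℂ) =
      ((Subgroup.centralizer ({s} : Set G)).index : ℂ) *
      ((Subgroup.centralizer ({s} : Set G)).index : ℂ) / (Nat.card G : ℂ) *
      ((Nat.card (P : Subgroup G) : ℂ) * ∑ χ : IrrCharacter G,
        (χ : G → ℂ) s * (χ : G → ℂ) s⁻¹ * m χ / (χ : G → ℂ) 1) := by
    have h1 : ∑ z : (P : Subgroup G),
        (Nat.card {q : G × G // IsConj s q.1 ∧ IsConj s⁻¹ q.2 ∧ q.1 * q.2 = z} : ℂ) =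
        ((Subgroup.centralizer ({s} : Set G)).index : ℂ) := by
      rw [Finset.sum_congr rfl (fun z _ => key z), Finset.sum_ite_eq']
      simp
    rw [← h1]
    conv_lhs => simp only [Cfsg.Agent.Characters.ClassMul.card_class_mul]
    rw [h1, hidx, ← Finset.mul_sum]
    congr 1
    rw [Finset.sum_comm, Finset.mul_sum]
    refine Finset.sum_congr rfl fun χ _ => ?_
    have h2 : ∀ z : (P : Subgroup G),
        (χ : G → ℂ) s * (χ : G → ℂ) s⁻¹ * conj ((χ : G → ℂ) z) / (χ : G → ℂ) 1 =
        ((χ : G → ℂ) s * (χ : G → ℂ) s⁻¹ / (χ : G → ℂ) 1) * conj ((χ : G → ℂ) z) := by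
      intro z; ring
    rw [Finset.sum_congr rfl (fun z _ => h2 z), ← Finset.mul_sum, hm χ]
    ring
  set I : ℕ := (Subgroup.centralizer ({s} : Set G)).index with hI
  have hI0 : (I : ℂ) ≠ 0 := by
    rw [hI]; exact_mod_cast Subgroup.index_ne_zero_of_finite
  have hG0 : (Nat.card G : ℂ) ≠ 0 := card_ne_zero_complex
  have hP0 : (Nat.card (P : Subgroup G) : ℂ) ≠ 0 := by exact_mod_cast Nat.card_pos.ne'
  have hidxP : (Nat.card (P : Subgroup G) : ℂ) * ((P : Subgroup G).index : ℂ) = Nat.card G := by
    exact_mod_cast (P : Subgroup G).card_mul_index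
  have hmain : ((P : Subgroup G).index : ℂ) =
      ∑ χ : IrrCharacter G, centralChar (χ : G → ℂ) s * ((χ : G → ℂ) s⁻¹ * m χ) := by
    have h1 : ∀ χ : IrrCharacter G, centralChar (χ : G → ℂ) s * ((χ : G → ℂ) s⁻¹ * m χ) =
        I * ((χ : G → ℂ) s * (χ : G → ℂ) s⁻¹ * m χ / (χ : G → ℂ) 1) := by
      intro χ
      unfold centralChar
      ring
    rw [Finset.sum_congr rfl fun χ _ => h1 χ, ← Finset.mul_sum]
    set T : ℂ := ∑ χ : IrrCharacter G, (χ : G → ℂ) s * (χ : G → ℂ) s⁻¹ * m χ / (χ : G → ℂ) 1
      with hT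
    rw [← hidxP] at hsum
    have hidx0 : ((P : Subgroup G).index : ℂ) ≠ 0 := by
      exact_mod_cast Subgroup.index_ne_zero_of_finite
    have h3 : (I : ℂ) * I / ((Nat.card (P : Subgroup G) : ℂ) * ((P : Subgroup G).index : ℂ)) *
        ((Nat.card (P : Subgroup G) : ℂ) * T) = I * (I * T) / ((P : Subgroup G).index : ℂ) := by
      field_simp
    rw [h3, eq_div_iff hidx0] at hsum
    exact mul_left_cancel₀ hI0 hsum
  have hmem : MemLocalIdeal M ((P : Subgroup G).index : ℂ) := by
    rw [hmain]
    refine memLocalIdeal_sum fun χ _ => ?_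
    refine memLocalIdeal_mul_right (hcon χ) (memLocalRing_mul ?_ (memLocalRing_natCast _))
    exact memLocalRing_of_isIntegral (H665.DefZero.isIntegral_char (isIrr_isCharacter χ.2) s⁻¹)
  have hnd : ¬ p ∣ (P : Subgroup G).index := P.not_dvd_index
  exact hnd ((memLocalIdeal_natCast_iff hM _).1 hmem)

omit hp in
/-- A nonvanishing central character forces a large `p`-part of the degree. -/
theorem le_of_centralChar (hM : IsPModular p M) {s : G}
    (h : ∃ χ : IrrCharacter G, ¬ MemLocalIdeal M (centralChar (χ : G → ℂ) s)) :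
    ∃ χ : IrrCharacter G, (Subgroup.centralizer ({s} : Set G)).index.factorization p ≤
      (charDegree (χ : G → ℂ)).factorization p := by
  obtain ⟨χ, hχ⟩ := h
  exact ⟨χ, Cfsg.Agent.Blocks.DefectCard.factorization_index_le hM χ.2 s hχ⟩

theorem IM.of_le_factorization {n : ℕ} (hn : p ∣ n)
    (hn0 : n ≠ 0) (h : ∃ χ : IrrCharacter G, n.factorization p ≤
      (charDegree (χ : G → ℂ)).factorization p) : IM p G := by
  obtain ⟨χ, hχ⟩ := h
  refine ⟨χ, ?_⟩
  have h1 : 1 ≤ n.factorization p := hp.out.factorization_pos_of_dvd hn0 hn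
  have h2 : charDegree (χ : G → ℂ) ≠ 0 := (Cfsg.Agent.Blocks.Basic.charDegree_pos χ.2).ne'
  exact (hp.out.dvd_iff_one_le_factorization h2).2 (h1.trans hχ)

/-- The basic criterion: `p` divides the class size of `s` and no quotient of two conjugates of `s`
is a nontrivial `p`-element. -/
theorem IM.of_quotients {s : G} (hd : p ∣ (Subgroup.centralizer ({s} : Set G)).index)
    (hs : ∀ g h : G, IsConj s g → IsConj s h → (∃ k : ℕ, orderOf (g * h⁻¹) = p ^ k) → g = h) :
    IM p G := by
  obtain ⟨M, hM⟩ := Cfsg.Agent.Blocks.Knorr.exists_isPModular p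
  obtain ⟨P⟩ : Nonempty (Sylow p G) := inferInstance
  refine IM.of_le_factorization hd Subgroup.index_ne_zero_of_finite
    (le_of_centralChar hM (exists_centralChar hM s P ?_))
  intro g h hg hh hP
  have h1 := hs g h hg hh ?_
  · rw [h1, mul_inv_cancel]
  · obtain ⟨k, hk⟩ := IsPGroup.iff_orderOf.1 P.isPGroup' ⟨_, hP⟩
    exact ⟨k, by rw [← hk, Subgroup.orderOf_mk]⟩

/-- The criterion in a group with a normal `p`-subgroup centralised by `u`. -/
theorem exists_centralChar_of_normal (hM : IsPModular p M) (D : Subgroup G) [D.Normal]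
    (hD : IsPGroup p D) (u : G) (hu : ¬ p ∣ orderOf u)
    (hDu : ∀ d ∈ D, d * u = u * d)
    (hs : ∀ a b : G, IsConj u a → IsConj u b → (∃ k : ℕ, orderOf (a * b⁻¹) = p ^ k) → a = b) :
    ∃ χ : IrrCharacter G, ¬ MemLocalIdeal M (centralChar (χ : G → ℂ) u) := by
  classical
  obtain ⟨P⟩ : Nonempty (Sylow p (G ⧸ D)) := inferInstance
  have lift : ∀ g' : G ⧸ D, IsConj (QuotientGroup.mk' D u) g' →
      ∃ a : G, IsConj u a ∧ QuotientGroup.mk' D a = g' := by
    intro g' hg'
    obtain ⟨c', hc'⟩ := isConj_iff.1 hg'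
    obtain ⟨c, rfl⟩ := QuotientGroup.mk'_surjective D c'
    exact ⟨c * u * c⁻¹, isConj_iff.2 ⟨c, rfl⟩, by rw [← hc', map_mul, map_mul, map_inv]⟩
  obtain ⟨χ, hχ⟩ := exists_centralChar hM (QuotientGroup.mk' D u) P (by
    intro g' h' hg' hh' hP
    obtain ⟨a, ha, rfl⟩ := lift g' hg'
    obtain ⟨b, hb, rfl⟩ := lift h' hh'
    have h1 := hs a b ha hb ?_
    · rw [h1, mul_inv_cancel]
    · rw [← map_inv, ← map_mul] at hP
      obtain ⟨k, hk⟩ := P.isPGroup' ⟨_, hP⟩
      have hk' : QuotientGroup.mk' D ((a * b⁻¹) ^ p ^ k) = 1 := by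
        rw [map_pow]
        exact congrArg Subtype.val hk
      have hmem : (a * b⁻¹) ^ p ^ k ∈ D := (QuotientGroup.eq_one_iff _).1 hk'
      obtain ⟨j, hj⟩ := hD ⟨_, hmem⟩
      have hj' : (a * b⁻¹) ^ p ^ (k + j) = 1 := by
        rw [pow_add, pow_mul]
        exact congrArg Subtype.val hj
      obtain ⟨i, -, hi⟩ := (Nat.dvd_prime_pow hp.out).1 (orderOf_dvd_of_pow_eq_one hj')
      exact ⟨i, hi⟩)
  refine ⟨⟨(χ : G ⧸ D → ℂ) ∘ QuotientGroup.mk' D,
    isIrr_comp (QuotientGroup.mk' D) (QuotientGroup.mk'_surjective D) χ.2⟩, ?_⟩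
  have hcomap : (Subgroup.centralizer ({QuotientGroup.mk' D u} : Set (G ⧸ D))).comap
      (QuotientGroup.mk' D) = Subgroup.centralizer ({u} : Set G) := by
    ext n
    rw [Subgroup.mem_comap, Subgroup.mem_centralizer_singleton_iff,
      Subgroup.mem_centralizer_singleton_iff]
    constructor
    · intro h
      -- `n u n⁻¹ = u d`
      have hd : u⁻¹ * (n * u * n⁻¹) ∈ D := by
        rw [← QuotientGroup.eq_one_iff]
        show QuotientGroup.mk' D (u⁻¹ * (n * u * n⁻¹)) = 1
        rw [map_mul, map_mul, map_mul, map_inv, map_inv, h]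
        group
      set d := u⁻¹ * (n * u * n⁻¹) with hdd
      have h1 : n * u * n⁻¹ = u * d := by rw [hdd]; group
      have h2 : Commute u d := (hDu d hd).symm
      have h3 : orderOf (u * d) = orderOf u := by
        rw [← h1]
        exact (MulAut.conj n).orderOf_eq u
      obtain ⟨k, hk⟩ := IsPGroup.iff_orderOf.1 hD ⟨d, hd⟩
      rw [Subgroup.orderOf_mk] at hk
      have hcop : (orderOf u).Coprime (orderOf d) := by
        rw [hk]
        exact Nat.Coprime.pow_right _ ((Nat.Prime.coprime_iff_not_dvd hp.out).2 hu).symm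
      have h4 := h2.orderOf_mul_eq_mul_orderOf_of_coprime hcop
      rw [h3] at h4
      have h5 : orderOf d = 1 := by
        have : 0 < orderOf u := orderOf_pos u
        exact Nat.eq_of_mul_eq_mul_left this (by rw [← h4, mul_one])
      rw [orderOf_eq_one_iff] at h5
      rw [h5, mul_one] at h1
      calc n * u = n * u * n⁻¹ * n := by group
        _ = u * n := by rw [h1]
    · intro h
      rw [← map_mul, ← map_mul, h]
  have hindex : (Subgroup.centralizer ({u} : Set G)).index =
      (Subgroup.centralizer ({QuotientGroup.mk' D u} : Set (G ⧸ D))).index := by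
    rw [← hcomap, Subgroup.index_comap_of_surjective _ (QuotientGroup.mk'_surjective D)]
  intro hcon
  apply hχ
  have h1 : centralChar (χ : G ⧸ D → ℂ) (QuotientGroup.mk' D u) =
      centralChar ((χ : G ⧸ D → ℂ) ∘ QuotientGroup.mk' D) u := by
    unfold centralChar
    rw [hindex, Function.comp_apply, Function.comp_apply, map_one]
  rw [h1]
  exact hcon

/-- Transfer of a nonvanishing Brauer central character to `G`. -/
theorem exists_of_brauer (hM : IsPModular p M) {D H : Subgroup G} (hD : IsPGroup p D)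
    (hCH : Subgroup.centralizer (D : Set G) ≤ H) (hHN : H ≤ Subgroup.normalizer (D : Set G))
    {ξ : H → ℂ} (hξ : IsIrrCharacter H ξ) {u : G}
    (hu : ¬ MemLocalIdeal M (brauerCentralChar D H ξ u)) :
    ∃ χ : IrrCharacter G, ¬ MemLocalIdeal M (centralChar (χ : G → ℂ) u) := by
  obtain ⟨χ, hχ⟩ := Cfsg.Agent.Blocks.BrauerHom.exists_irr_brauer hM hD hCH hHN hξ
  have : M.IsPrime := isPrime_of_isPModular hM
  exact ⟨χ, fun h => hu ((memLocalIdeal_iff_of_sub (hχ u)).2 h)⟩

/-- **Theorem RD** (helper569): `u` of order prime to `p`, `D` a Sylow `p`-subgroup of `C_G(u)`, and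
no quotient of two conjugates of `u` inside `C_G(D)` is a nontrivial `p`-element. -/
theorem exists_RD (hM : IsPModular p M) (D : Subgroup G) (hD : IsPGroup p D) (u : G)
    (hu : ¬ p ∣ orderOf u) (hDu : D ≤ Subgroup.centralizer ({u} : Set G))
    (hcard : Nat.card D = p ^ (Nat.card (Subgroup.centralizer ({u} : Set G))).factorization p)
    (hs : ∀ a b : G, a ∈ Subgroup.centralizer (D : Set G) → b ∈ Subgroup.centralizer (D : Set G) →
      IsConj u a → IsConj u b → (∃ k : ℕ, orderOf (a * b⁻¹) = p ^ k) → a = b) :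
    ∃ χ : IrrCharacter G, ¬ MemLocalIdeal M (centralChar (χ : G → ℂ) u) := by
  classical
  set N : Subgroup G := Subgroup.normalizer (D : Set G) with hN
  have hDN : D ≤ N := Subgroup.le_normalizer
  have huC : u ∈ Subgroup.centralizer (D : Set G) := by
    rw [Subgroup.mem_centralizer_iff]
    intro d hd
    have h1 := hDu hd
    rw [Subgroup.mem_centralizer_singleton_iff] at h1
    exact h1
  have hCN : Subgroup.centralizer (D : Set G) ≤ N := Subgroup.centralizer_le_normalizer _
  have huN : u ∈ N := hCN huC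
  let y : N := ⟨u, huN⟩
  have hnorm : (D.subgroupOf N).Normal := Subgroup.normal_in_normalizer
  have hDp : IsPGroup p (D.subgroupOf N) :=
    hD.of_injective (Subgroup.subgroupOfEquivOfLe hDN).toMonoidHom
      (Subgroup.subgroupOfEquivOfLe hDN).injective
  have hconjC : ∀ a : N, IsConj y a → (a : G) ∈ Subgroup.centralizer (D : Set G) := by
    intro a ha
    obtain ⟨c, hc⟩ := isConj_iff.1 ha
    rw [Subgroup.mem_centralizer_iff]
    intro d hd
    have hcN : (c : G)⁻¹ ∈ Subgroup.normalizer (D : Set G) := N.inv_mem c.2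
    have hd' : (c : G)⁻¹ * d * c ∈ D := by
      have := (Subgroup.mem_normalizer_iff.mp hcN d).mp hd
      simpa using this
    have h3 := (Subgroup.mem_centralizer_iff.mp huC) _ hd'
    have hc' : (c : G) * u * (c : G)⁻¹ = (a : G) := congrArg Subtype.val hc
    rw [← hc']
    calc d * ((c : G) * u * (c : G)⁻¹) = c * (((c : G)⁻¹ * d * c) * u) * (c : G)⁻¹ := by group
      _ = c * (u * ((c : G)⁻¹ * d * c)) * (c : G)⁻¹ := by rw [h3]
      _ = (c : G) * u * (c : G)⁻¹ * d := by group
  obtain ⟨ξ, hξ⟩ := exists_centralChar_of_normal hM (D.subgroupOf N) hDp y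
    (by rwa [Subgroup.orderOf_mk]) (by
      intro d hd
      apply Subtype.ext
      exact (Subgroup.mem_centralizer_iff.mp huC) (d : G) (Subgroup.mem_subgroupOf.1 hd)) (by
      intro a b ha hb hk
      apply Subtype.ext
      refine hs a b (hconjC a ha) (hconjC b hb) ?_ ?_ ?_
      · exact MonoidHom.map_isConj N.subtype ha
      · exact MonoidHom.map_isConj N.subtype hb
      · obtain ⟨k, hk⟩ := hk
        refine ⟨k, ?_⟩
        rw [← hk]
        exact Subgroup.orderOf_coe (a * b⁻¹))
  have hle : D.subgroupOf N ≤ Subgroup.centralizer ({y} : Set N) := by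
    intro d hd
    rw [Subgroup.mem_centralizer_singleton_iff]
    apply Subtype.ext
    exact (Subgroup.mem_centralizer_iff.mp huC) (d : G) (Subgroup.mem_subgroupOf.1 hd)
  have hcardN : Nat.card D = p ^ (Nat.card (Subgroup.centralizer ({y} : Set N))).factorization p := by
    have h1 : Nat.card (D.subgroupOf N) ∣ Nat.card (Subgroup.centralizer ({y} : Set N)) :=
      Subgroup.card_dvd_of_le hle
    have h2 : Nat.card (D.subgroupOf N) = Nat.card D :=
      Nat.card_congr (Subgroup.subgroupOfEquivOfLe hDN).toEquiv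
    have h3 : Nat.card (Subgroup.centralizer ({y} : Set N)) ∣
        Nat.card (Subgroup.centralizer ({u} : Set G)) := by
      have h4 : (Subgroup.centralizer ({y} : Set N)).map N.subtype ≤
          Subgroup.centralizer ({u} : Set G) := by
        rintro _ ⟨n, hn, rfl⟩
        rw [SetLike.mem_coe, Subgroup.mem_centralizer_singleton_iff] at hn
        rw [Subgroup.mem_centralizer_singleton_iff]
        exact congrArg Subtype.val hn
      have h5 := Subgroup.card_dvd_of_le h4
      rwa [Subgroup.card_map_of_injective N.subtype_injective] at h5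
    have h6 : (Nat.card (Subgroup.centralizer ({y} : Set N))).factorization p ≤
        (Nat.card (Subgroup.centralizer ({u} : Set G))).factorization p :=
      (Nat.factorization_le_iff_dvd Nat.card_pos.ne' Nat.card_pos.ne').2 h3 p
    have h7 : (Nat.card (Subgroup.centralizer ({u} : Set G))).factorization p ≤
        (Nat.card (Subgroup.centralizer ({y} : Set N))).factorization p := by
      have h8 := (Nat.factorization_le_iff_dvd Nat.card_pos.ne' Nat.card_pos.ne').2 h1 p
      rw [h2, hcard, hp.out.factorization_pow, Finsupp.single_eq_same] at h8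
      exact h8
    rw [hcard, le_antisymm h6 h7]
  obtain ⟨-, -, h9⟩ := Cfsg.Agent.S0920.brauerCentralChar_eq D N hN hD y hle hcardN
  refine exists_of_brauer hM hD hCN le_rfl ξ.2 (u := u) ?_
  have h10 := h9 ξ
  change brauerCentralChar D N (ξ : _ → ℂ) u = _ at h10
  rw [h10]
  exact hξ

/-- **Theorem RD**, divisibility form. -/
theorem exists_le_of_RD (D : Subgroup G) (hD : IsPGroup p D) (u : G)
    (hu : ¬ p ∣ orderOf u) (hDu : D ≤ Subgroup.centralizer ({u} : Set G))
    (hcard : Nat.card D = p ^ (Nat.card (Subgroup.centralizer ({u} : Set G))).factorization p)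
    (hs : ∀ a b : G, a ∈ Subgroup.centralizer (D : Set G) → b ∈ Subgroup.centralizer (D : Set G) →
      IsConj u a → IsConj u b → (∃ k : ℕ, orderOf (a * b⁻¹) = p ^ k) → a = b) :
    ∃ χ : IrrCharacter G, (Subgroup.centralizer ({u} : Set G)).index.factorization p ≤
      (charDegree (χ : G → ℂ)).factorization p := by
  obtain ⟨M, hM⟩ := Cfsg.Agent.Blocks.Knorr.exists_isPModular p
  exact le_of_centralChar hM (exists_RD hM D hD u hu hDu hcard hs)

theorem IM.of_RD (D : Subgroup G) (hD : IsPGroup p D) (u : G)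
    (hu : ¬ p ∣ orderOf u) (hDu : D ≤ Subgroup.centralizer ({u} : Set G))
    (hcard : Nat.card D = p ^ (Nat.card (Subgroup.centralizer ({u} : Set G))).factorization p)
    (hd : p ∣ (Subgroup.centralizer ({u} : Set G)).index)
    (hs : ∀ a b : G, a ∈ Subgroup.centralizer (D : Set G) → b ∈ Subgroup.centralizer (D : Set G) →
      IsConj u a → IsConj u b → (∃ k : ℕ, orderOf (a * b⁻¹) = p ^ k) → a = b) : IM p G :=
  IM.of_le_factorization hd Subgroup.index_ne_zero_of_finite
    (exists_le_of_RD D hD u hu hDu hcard hs)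

/-- The variant with a Sylow subgroup of the centralizer chosen for us: all `p`-subgroups `D` of
maximal order in `C_G(u)`. -/
theorem IM.of_RD' (u : G) (hu : ¬ p ∣ orderOf u)
    (hd : p ∣ (Subgroup.centralizer ({u} : Set G)).index)
    (hs : ∀ D : Subgroup G, IsPGroup p D → D ≤ Subgroup.centralizer ({u} : Set G) →
      Nat.card D = p ^ (Nat.card (Subgroup.centralizer ({u} : Set G))).factorization p →
      ∀ a b : G, a ∈ Subgroup.centralizer (D : Set G) → b ∈ Subgroup.centralizer (D : Set G) →
      IsConj u a → IsConj u b → (∃ k : ℕ, orderOf (a * b⁻¹) = p ^ k) → a = b) : IM p G := by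
  obtain ⟨S⟩ : Nonempty (Sylow p (Subgroup.centralizer ({u} : Set G))) := inferInstance
  have h1 : IsPGroup p ((S : Subgroup _).map (Subgroup.centralizer ({u} : Set G)).subtype) :=
    S.isPGroup'.map _
  have h2 : (S : Subgroup _).map (Subgroup.centralizer ({u} : Set G)).subtype ≤
      Subgroup.centralizer ({u} : Set G) := Subgroup.map_subtype_le _
  have h3 : Nat.card ((S : Subgroup _).map (Subgroup.centralizer ({u} : Set G)).subtype) =
      p ^ (Nat.card (Subgroup.centralizer ({u} : Set G))).factorization p := by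
    rw [Subgroup.card_map_of_injective (Subgroup.subtype_injective _), S.card_eq_multiplicity]
  exact IM.of_RD _ h1 u hu h2 h3 hd (hs _ h1 h2 h3)

/-- **T3**: a `p`-subgroup `D` whose centralizer has a character of defect zero modulo `Z(D)`, such
that all `p`-elements of `N_G(D)` stabilising its block lie in `D C_G(D)`. -/
theorem exists_of_local (D : Subgroup G) (hD : IsPGroup p D)
    (θ : IrrCharacter (Subgroup.centralizer (D : Set G)))
    (hdeg : (Nat.card (Subgroup.centralizer (D : Set G))).factorization p ≤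
      (charDegree (θ : Subgroup.centralizer (D : Set G) → ℂ)).factorization p +
      (Nat.card ↥(D ⊓ Subgroup.centralizer (D : Set G))).factorization p)
    (hst : ∀ g : G, g ∈ Subgroup.normalizer (D : Set G) → (∃ k : ℕ, orderOf g = p ^ k) →
      g ∈ D ⊔ Subgroup.centralizer (D : Set G)) :
    ∃ χ : IrrCharacter G, D.index.factorization p ≤ (charDegree (χ : G → ℂ)).factorization p := by
  classical
  obtain ⟨M, hM⟩ := Cfsg.Agent.Blocks.Knorr.exists_isPModular p
  have : M.IsPrime := isPrime_of_isPModular hM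
  set e : Set (IrrCharacter (Subgroup.centralizer (D : Set G))) :=
    blockOf M (θ : Subgroup.centralizer (D : Set G) → ℂ) with he
  have heB : IsPBlock M e := ⟨θ, rfl⟩
  have hθe : θ ∈ e := fun g => by rw [sub_self]; exact memLocalIdeal_zero
  -- the reverse inequality
  have hrev : (charDegree (θ : Subgroup.centralizer (D : Set G) → ℂ)).factorization p +
      (Nat.card ↥(D ⊓ Subgroup.centralizer (D : Set G))).factorization p ≤
      (Nat.card (Subgroup.centralizer (D : Set G))).factorization p := by
    obtain ⟨d, ρ, hρ, hχ⟩ := θ.2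
    have hZ : D.subgroupOf (Subgroup.centralizer (D : Set G)) ≤
        Subgroup.center (Subgroup.centralizer (D : Set G)) :=
      Cfsg.Agent.H686.PairCrit.subgroupOf_le_center D
    have hn : (D.subgroupOf (Subgroup.centralizer (D : Set G))).Normal := by
      constructor
      intro x hx g
      have h1 := Subgroup.mem_center_iff.1 (hZ hx) g
      rw [h1, mul_inv_cancel_right]
      exact hx
    have hdvd := Cfsg.Agent.S0169.result ρ (D.subgroupOf (Subgroup.centralizer (D : Set G)))
      (fun a ha b _ => ((Subgroup.mem_center_iff.1 (hZ ha)) b).symm)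
    have h2 : charDegree (θ : Subgroup.centralizer (D : Set G) → ℂ) = d := by
      apply H670.PSing.charDegree_eq_of
      rw [← hχ, Representation.char_one]
      simp
    rw [Module.finrank_fin_fun, ← h2] at hdvd
    have h3 := (Nat.factorization_le_iff_dvd
      (Cfsg.Agent.Blocks.Basic.charDegree_pos θ.2).ne' Subgroup.index_ne_zero_of_finite).2 hdvd p
    have h4 : Nat.card (D.subgroupOf (Subgroup.centralizer (D : Set G))) =
        Nat.card ↥(D ⊓ Subgroup.centralizer (D : Set G)) := by
      have h5 : Nat.card ((D.subgroupOf (Subgroup.centralizer (D : Set G))).map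
          (Subgroup.centralizer (D : Set G)).subtype) =
          Nat.card (D.subgroupOf (Subgroup.centralizer (D : Set G))) :=
        Subgroup.card_map_of_injective (Subgroup.subtype_injective _)
      rw [Subgroup.subgroupOf_map_subtype] at h5
      exact h5.symm
    have h6 := (D.subgroupOf (Subgroup.centralizer (D : Set G))).card_mul_index
    rw [← h6, h4, Nat.factorization_mul Nat.card_pos.ne' Subgroup.index_ne_zero_of_finite,
      Finsupp.add_apply]
    omega
  obtain ⟨B, hB⟩ := Cfsg.Agent.H686.PairCrit.crit_mpr hM (Q := D) (e := e) ⟨hD, heB⟩ hθe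
    (le_antisymm hrev hdeg) (fun g hg _ hk => hst g hg hk)
  have hdef := Cfsg.Agent.H644.isDefectGroup_of_isMaximalBrauerPair hM hB
  have hBb : IsPBlock M B := hB.1.2.1
  obtain ⟨χ, hχ⟩ := Cfsg.Agent.Blocks.Basic.isPBlock_nonempty hBb
  refine ⟨χ, ?_⟩
  have h1 := Cfsg.Agent.H592.Defect.le_degree_add p hM hBb hdef hχ
  have h2 := D.card_mul_index
  rw [← h2, Nat.factorization_mul Nat.card_pos.ne' Subgroup.index_ne_zero_of_finite,
    Finsupp.add_apply] at h1
  omega

theorem IM.of_local (D : Subgroup G) (hD : IsPGroup p D) (hidx : p ∣ D.index)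
    (θ : IrrCharacter (Subgroup.centralizer (D : Set G)))
    (hdeg : (Nat.card (Subgroup.centralizer (D : Set G))).factorization p ≤
      (charDegree (θ : Subgroup.centralizer (D : Set G) → ℂ)).factorization p +
      (Nat.card ↥(D ⊓ Subgroup.centralizer (D : Set G))).factorization p)
    (hst : ∀ g : G, g ∈ Subgroup.normalizer (D : Set G) → (∃ k : ℕ, orderOf g = p ^ k) →
      g ∈ D ⊔ Subgroup.centralizer (D : Set G)) : IM p G :=
  IM.of_le_factorization hidx Subgroup.index_ne_zero_of_finite (exists_of_local D hD θ hdeg hst)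

end Cfsg.Agent.H33
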